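import Groth.Agent.LocImmLib.Ring
import Mathlib.AlgebraicGeometry.Noetherian
import Mathlib.AlgebraicGeometry.Morphisms.UniversallyOpen
import Mathlib.AlgebraicGeometry.Morphisms.SurjectiveOnStalks
import Mathlib.AlgebraicGeometry.ZariskisMainTheorem
import Mathlib.AlgebraicGeometry.Morphisms.UniversallyInjective
import Mathlib.AlgebraicGeometry.PullbackCarrier

/-!
# Localizing morphisms and localizing immersions
-/

set_option autoImplicit false
set_option linter.style.haveILetI false

universe u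

namespace Groth.Agent.LocImmLib

open AlgebraicGeometry CategoryTheory Limits TopologicalSpace Topology

section Top

variable {α β : Type*} [TopologicalSpace α] [TopologicalSpace β]

/-- A closed set of a Noetherian sober space is covered by the closures of finitely many of its points. -/
theorem exists_finite_points [NoetherianSpace α] [QuasiSober α] {Z : Set α} (hZ : IsClosed Z) :
    ∃ P : Set α, P.Finite ∧ P ⊆ Z ∧ ∀ z ∈ Z, ∃ p ∈ P, p ⤳ z := by
  obtain ⟨S, hf, hc, hi, hS⟩ := NoetherianSpace.exists_finite_set_isClosed_irreducible hZ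
  have hex : ∀ t ∈ S, ∃ p, IsGenericPoint p t := fun t ht =>
    ⟨_, (hi t ht).isGenericPoint_genericPoint (hc t ht)⟩
  choose p hp using hex
  haveI := hf.to_subtype
  refine ⟨Set.range fun t : S => p t t.2, Set.finite_range _, ?_, fun z hz => ?_⟩
  · rintro _ ⟨t, rfl⟩
    rw [hS]
    exact ⟨t, t.2, (hp t t.2).mem⟩
  · rw [hS] at hz
    obtain ⟨t, ht, hzt⟩ := hz
    exact ⟨_, ⟨⟨t, ht⟩, rfl⟩, (hp t ht).specializes hzt⟩

/-- An injective generalizing map from a Noetherian sober space is an embedding. -/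
theorem isEmbedding_of_injective_of_generalizing [NoetherianSpace α] [QuasiSober α] {f : α → β} (hc : Continuous f)
    (hi : Function.Injective f) (hg : GeneralizingMap f) : IsEmbedding f := by
  refine ⟨⟨le_antisymm hc.le_induced fun W hW => ?_⟩, hi⟩
  obtain ⟨P, hPf, hPs, hP⟩ := exists_finite_points (α := α) hW.isClosed_compl
  refine isOpen_induced_iff.mpr ⟨(⋃ p ∈ P, closure {f p})ᶜ,
    (hPf.isClosed_biUnion fun _ _ => isClosed_closure).isOpen_compl, ?_⟩
  ext z
  simp only [Set.mem_preimage, Set.mem_compl_iff, Set.mem_iUnion, not_exists]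
  refine ⟨fun h => by_contra fun hz => ?_, fun hz p hp hpz => ?_⟩
  · obtain ⟨p, hp, hpz⟩ := hP z hz
    exact h p hp ((hpz.map hc).mem_closed isClosed_closure (subset_closure rfl))
  · obtain ⟨z', hz', he⟩ := hg (specializes_iff_mem_closure.mpr hpz)
    exact hPs hp (Specializes.mem_open (hi he ▸ hz') hW hz)

theorem isOpen_of_isClosed_of_stableUnderGeneralization [NoetherianSpace α] [QuasiSober α] {Z : Set α}
    (hc : IsClosed Z) (hg : StableUnderGeneralization Z) : IsOpen Z := by
  obtain ⟨P, hPf, -, hP⟩ := exists_finite_points (α := α) isClosed_univ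
  have : Zᶜ = ⋃ p ∈ P \ Z, closure {p} := by
    ext z
    simp only [Set.mem_compl_iff, Set.mem_iUnion, Set.mem_sdiff]
    refine ⟨fun hz => ?_, fun ⟨p, ⟨_, hp⟩, hpz⟩ hz => hp (hg (specializes_iff_mem_closure.mpr hpz) hz)⟩
    obtain ⟨p, hp, hpz⟩ := hP z trivial
    exact ⟨p, ⟨hp, fun h => hz (hpz.mem_closed hc h)⟩, specializes_iff_mem_closure.mp hpz⟩
  rw [← isClosed_compl_iff, this]
  exact (hPf.subset Set.sdiff_subset).isClosed_biUnion fun _ _ => isClosed_closure

end Top

variable {X Y Z : Scheme.{u}}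

theorem surjectiveOnStalks_of_isLocHom {A B : Type u} [CommRing A] [CommRing B] {φ : A →+* B}
    (h : LocImm.IsLocHom φ) : φ.SurjectiveOnStalks := by
  obtain ⟨S, hS⟩ := h
  letI := φ.toAlgebra
  exact RingHom.surjectiveOnStalks_of_isLocalization (M := S) B

theorem flat_of_isLocHom {A B : Type u} [CommRing A] [CommRing B] {φ : A →+* B}
    (h : LocImm.IsLocHom φ) : φ.Flat := by
  obtain ⟨S, hS⟩ := h
  letI := φ.toAlgebra
  exact IsLocalization.flat B S

theorem surjectiveOnStalks_of_isLocalizing {f : X ⟶ Y} (hf : LocImm.IsLocalizing f) : SurjectiveOnStalks f := by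
  rw [HasRingHomProperty.iff_exists_appLE (P := @SurjectiveOnStalks) fun {R S T} _ _ _ _ r _ g hg =>
      RingHom.SurjectiveOnStalks.comp hg (RingHom.surjectiveOnStalks_of_isLocalization (M := Submonoid.powers r) S)]
  intro x
  obtain ⟨U, V, hx, e, hl⟩ := hf x
  exact ⟨U, V, hx, e, surjectiveOnStalks_of_isLocHom hl⟩

theorem flat_of_isLocalizing {f : X ⟶ Y} (hf : LocImm.IsLocalizing f) : Flat f := by
  rw [HasRingHomProperty.iff_exists_appLE (P := @Flat)
    (RingHom.Flat.stableUnderComposition.stableUnderCompositionWithLocalizationAway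
      RingHom.Flat.holdsForLocalizationAway).left]
  intro x
  obtain ⟨U, V, hx, e, hl⟩ := hf x
  exact ⟨U, V, hx, e, flat_of_isLocHom hl⟩

variable (f : X ⟶ Y)

theorem isIso_stalkMap (hf : LocImm.IsLocalizing f) (x : X) : IsIso (f.stalkMap x) := by
  haveI := surjectiveOnStalks_of_isLocalizing hf
  haveI := flat_of_isLocalizing hf
  have hfl : (f.stalkMap x).hom.Flat := Flat.stalkMap f x
  rw [ConcreteCategory.isIso_iff_bijective]
  refine ⟨?_, f.stalkMap_surjective x⟩
  letI := (f.stalkMap x).hom.toAlgebra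
  haveI : Module.Flat (Y.presheaf.stalk (f x)) (X.presheaf.stalk x) := hfl
  haveI : IsLocalHom (algebraMap (Y.presheaf.stalk (f x)) (X.presheaf.stalk x)) :=
    inferInstanceAs (IsLocalHom (f.stalkMap x).hom)
  haveI := Module.FaithfullyFlat.of_flat_of_isLocalHom (A := Y.presheaf.stalk (f x)) (B := X.presheaf.stalk x)
  exact FaithfulSMul.algebraMap_injective (Y.presheaf.stalk (f x)) (X.presheaf.stalk x)

theorem stableUnderGeneralization_range (hf : LocImm.IsLocalizing f) : StableUnderGeneralization (Set.range f) := by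
  haveI := flat_of_isLocalizing hf
  exact (Flat.generalizingMap f).stableUnderGeneralization_range

theorem isEmbedding [IsNoetherian X] (hf : LocImm.IsLocImmersion f) : IsEmbedding f := by
  haveI := flat_of_isLocalizing hf.1
  exact isEmbedding_of_injective_of_generalizing f.continuous hf.2 (Flat.generalizingMap f)

theorem isOpenImmersion [IsNoetherian X] (hf : LocImm.IsLocImmersion f) (ho : IsOpen (Set.range f)) :
    IsOpenImmersion f := by
  haveI := fun x => isIso_stalkMap f hf.1 x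
  exact IsOpenImmersion.of_isIso_stalkMap f ⟨isEmbedding f hf, ho⟩

theorem mono (hf : LocImm.IsLocImmersion f) : Mono f := by
  haveI := surjectiveOnStalks_of_isLocalizing hf.1
  exact SurjectiveOnStalks.mono_of_injective hf.2

theorem isLocImmersion_of_mono (hf : LocImm.IsLocalizing f) [Mono f] : LocImm.IsLocImmersion f :=
  ⟨hf, f.injective⟩

/-- Every point of the source has an affine neighbourhood in the target, inside any given one, whose preimage is
affine with a localizing ring map. -/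
theorem exists_nhd [IsNoetherian X] (hf : LocImm.IsLocImmersion f) (x : X) {O : Y.Opens} (hO : f x ∈ O) :
    ∃ W : Y.Opens, f x ∈ W ∧ W ≤ O ∧ IsAffineOpen W ∧ IsAffineOpen (f ⁻¹ᵁ W) ∧ LocImm.IsLocHom (f.app W).hom := by
  obtain ⟨⟨U, hU⟩, ⟨V, hV⟩, hx, e, hl⟩ := hf.1 x
  obtain ⟨G, hG, hGV⟩ := (isEmbedding f hf).isInducing.isOpen_iff.mp V.isOpen
  let G' : Y.Opens := ⟨G, hG⟩ ⊓ O
  have hxG : f x ∈ G' := ⟨show x ∈ f ⁻¹' G by rw [hGV]; exact hx, hO⟩
  obtain ⟨a, haG, hxa⟩ := hU.exists_basicOpen_le (V := G') ⟨f x, hxG⟩ (e hx)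
  let b := f.appLE U V e a
  have hpre : f ⁻¹ᵁ Y.basicOpen a = X.basicOpen b := by
    rw [Scheme.basicOpen_appLE]
    refine le_antisymm (le_inf ?_ le_rfl) inf_le_right
    intro z hz
    have : z ∈ f ⁻¹' G := (haG hz).1
    rwa [hGV] at this
  have e' : X.basicOpen b ≤ f ⁻¹ᵁ Y.basicOpen a := hpre.ge
  refine ⟨Y.basicOpen a, hxa, haG.trans inf_le_right, hU.basicOpen a, hpre ▸ hV.basicOpen b, ?_⟩
  haveI := hU.isLocalization_basicOpen a
  haveI := hV.isLocalization_basicOpen b
  have key : LocImm.IsLocHom (f.appLE (Y.basicOpen a) (X.basicOpen b) e').hom := by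
    refine isLocHom_away hl a _ ?_
    ext z
    exact congr($(Scheme.Hom.map_appLE f (U := Y.basicOpen a) (U' := U) e' (homOfLE (Y.basicOpen_le a)).op).hom z).trans
      congr($(Scheme.Hom.appLE_map f (U := U) (V := V) e (homOfLE (X.basicOpen_le b)).op).hom z).symm
  have hgen : ∀ (W : X.Opens) (e' : W ≤ f ⁻¹ᵁ Y.basicOpen a), W = f ⁻¹ᵁ Y.basicOpen a →
      LocImm.IsLocHom (f.appLE (Y.basicOpen a) W e').hom → LocImm.IsLocHom (f.app (Y.basicOpen a)).hom := by
    rintro W e' rfl h
    rwa [Scheme.Hom.app_eq_appLE]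
  exact hgen _ e' hpre.symm key

theorem isLocImmersion_of_forall_nhd
    (h : ∀ x : X, ∃ V : Y.Opens, f x ∈ V ∧ IsAffineOpen V ∧ IsAffineOpen (f ⁻¹ᵁ V) ∧ LocImm.IsLocHom (f.app V).hom) :
    LocImm.IsLocImmersion f := by
  refine ⟨fun x => ?_, fun x y hxy => ?_⟩
  · obtain ⟨V, hx, hV, hfV, hl⟩ := h x
    exact ⟨⟨V, hV⟩, ⟨_, hfV⟩, hx, le_rfl, by rwa [← Scheme.Hom.app_eq_appLE]⟩
  · obtain ⟨V, hx, hV, hfV, hl⟩ := h x
    have hy : f y ∈ V := hxy ▸ hx
    obtain ⟨S, hS⟩ := hl
    letI := (f.app V).hom.toAlgebra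
    haveI := hS
    haveI : IsAffine V.toScheme := hV
    haveI : IsAffine (f ⁻¹ᵁ V).toScheme := hfV
    have hi := PrimeSpectrum.localization_comap_injective Γ(X, f ⁻¹ᵁ V) S
    have key : hfV.primeIdealOf ⟨x, hx⟩ = hfV.primeIdealOf ⟨y, hy⟩ := by
      apply hi
      have e1 := fun (z : X) (hz : z ∈ f ⁻¹ᵁ V) =>
        IsAffineOpen.comap_primeIdealOf_appLE (f := f) (x := z) V hV (f ⁻¹ᵁ V) hfV le_rfl hz
      simp only [Scheme.Hom.appLE_eq_app] at e1
      refine (e1 x hx).trans (Eq.trans ?_ (e1 y hy).symm)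
      congr 1
      exact Subtype.ext hxy
    have := congrArg hfV.fromSpec key
    rwa [hfV.fromSpec_primeIdealOf, hfV.fromSpec_primeIdealOf] at this

end Groth.Agent.LocImmLib
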