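import Groth.Agent.LocImmLib.Basic
import Groth.Agent.ThickProps.Descend

/-!
# Base change, cancellation and injectivity for localizing morphisms
-/

set_option autoImplicit false
set_option linter.style.haveILetI false

universe u

namespace Groth.Agent.LocImmLib

open AlgebraicGeometry CategoryTheory Limits TopologicalSpace Topology

variable {X Y Y' Z : Scheme.{u}}

theorem isLocImmersion_pullback_snd [IsNoetherian X] (f : X ⟶ Y) (g : Y' ⟶ Y) (hf : LocImm.IsLocImmersion f) :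
    LocImm.IsLocImmersion (pullback.snd f g) := by
  haveI := mono f hf
  refine isLocImmersion_of_forall_nhd _ fun z => ?_
  let x := pullback.fst f g z
  obtain ⟨W, hxW, -, hW, hfW, hl⟩ := exists_nhd f hf x (O := ⊤) trivial
  have hgz : g (pullback.snd f g z) ∈ W := by
    rw [← Scheme.Hom.comp_apply, ← pullback.condition, Scheme.Hom.comp_apply]; exact hxW
  obtain ⟨_, ⟨V', hV, rfl⟩, hzV, hVW⟩ :=
    Y'.isBasis_affineOpens.exists_subset_of_mem_open (show pullback.snd f g z ∈ g ⁻¹ᵁ W from hgz) (g ⁻¹ᵁ W).isOpen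
  let V : Y'.Opens := V'
  have e : V ≤ g ⁻¹ᵁ W := hVW
  have hc := IsPullback.of_hasPullback f g
  have hUY : pullback.snd f g ⁻¹ᵁ V = pullback.fst f g ⁻¹ᵁ (f ⁻¹ᵁ W) ⊓ pullback.snd f g ⁻¹ᵁ V := by
    refine (inf_eq_right.mpr fun w hw => ?_).symm
    show f (pullback.fst f g w) ∈ W
    rw [← Scheme.Hom.comp_apply, pullback.condition, Scheme.Hom.comp_apply]
    exact e hw
  haveI : IsAffine W.toScheme := hW
  haveI : IsAffine (f ⁻¹ᵁ W).toScheme := hfW
  haveI : IsAffine V.toScheme := hV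
  have hP : IsAffineOpen (pullback.snd f g ⁻¹ᵁ V) :=
    IsAffine.of_isIso (Scheme.Hom.isPullback_resLE hc e (le_refl (f ⁻¹ᵁ W)) hUY).isoPullback.hom
  refine ⟨V, hzV, hV, hP, ?_⟩
  have h := (isIso_pushoutSection_iff hc e (le_refl (f ⁻¹ᵁ W)) hUY).mp
    (isIso_pushoutSection_of_isAffineOpen hc e (le_refl _) hUY hW hV hfW)
  simp only [Scheme.Hom.appLE_eq_app] at h
  algebraize [(f.app W).hom, (g.appLE W V e).hom, ((pullback.fst f g).appLE (f ⁻¹ᵁ W) (pullback.snd f g ⁻¹ᵁ V) (hUY.le.trans inf_le_left)).hom,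
    ((pullback.snd f g).app V).hom, (((pullback.snd f g).app V).hom.comp (g.appLE W V e).hom)]
  haveI : IsScalarTower Γ(Y, W) Γ(X, f ⁻¹ᵁ W) Γ(pullback f g, pullback.snd f g ⁻¹ᵁ V) :=
    IsScalarTower.of_algebraMap_eq' (congrArg CommRingCat.Hom.hom h.w.symm)
  haveI : Algebra.IsPushout Γ(Y, W) Γ(Y', V) Γ(X, f ⁻¹ᵁ W) Γ(pullback f g, pullback.snd f g ⁻¹ᵁ V) :=
    (CommRingCat.isPushout_iff_isPushout.mp h).symm
  exact isLocHom_pushout (A := Γ(Y, W)) (B := Γ(X, f ⁻¹ᵁ W)) (A' := Γ(Y', V)) hl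

/-- A separated localizing morphism which is injective on maximal points is injective. -/
theorem injective_of_isSeparated (f : X ⟶ Y) (hf : LocImm.IsLocalizing f) [IsSeparated f]
    (hm : Set.InjOn (fun x => f x) {x : X | ∀ x' : X, x' ⤳ x → x' = x}) : Function.Injective f := by
  intro a b hab
  haveI := surjectiveOnStalks_of_isLocalizing hf
  haveI := flat_of_isLocalizing hf
  obtain ⟨z, rfl, rfl⟩ := Scheme.Pullback.exists_preimage_pullback (f := f) (g := f) a b hab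
  obtain ⟨C, hC, hzC⟩ : ∃ C ∈ irreducibleComponents ↥(pullback f f), z ∈ C :=
    ⟨_, irreducibleComponent_mem_irreducibleComponents z, mem_irreducibleComponent⟩
  have hgen := hC.1.isGenericPoint_genericPoint (isClosed_of_mem_irreducibleComponents C hC)
  set z' := hC.1.genericPoint
  have hzz : z' ⤳ z := hgen.specializes hzC
  have hzmax : ∀ w, w ⤳ z' → w = z' := fun w hw => by
    refine (Specializes.antisymm hw (hgen.specializes ?_)).eq
    rw [hC.eq_of_subset isIrreducible_singleton.closure fun c hc =>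
      specializes_iff_mem_closure.mp (hw.trans (hgen.specializes hc))]
    exact subset_closure rfl
  have hmax : ∀ (p : pullback f f ⟶ X), Flat p → ∀ x', x' ⤳ p z' → x' = p z' := fun p hp x' hx' => by
    obtain ⟨w, hw, rfl⟩ := Flat.generalizingMap p hx'
    rw [hzmax w hw]
  have h1 := hmax (pullback.fst f f) inferInstance
  have h2 := hmax (pullback.snd f f) inferInstance
  have heq : pullback.fst f f z' = pullback.snd f f z' := hm h1 h2 (by
    show f _ = f _
    rw [← Scheme.Hom.comp_apply, pullback.condition, Scheme.Hom.comp_apply])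
  have hd : pullback.diagonal f (pullback.fst f f z') = z' := by
    refine (SurjectiveOnStalks.isEmbedding_pullback f f).injective ?_
    have e1 : ∀ y, pullback.fst f f (pullback.diagonal f y) = y := fun y => by
      rw [← Scheme.Hom.comp_apply, pullback.diagonal_fst]; rfl
    have e2 : ∀ y, pullback.snd f f (pullback.diagonal f y) = y := fun y => by
      rw [← Scheme.Hom.comp_apply, pullback.diagonal_snd]; rfl
    exact Prod.ext (e1 _) ((e2 _).trans heq)
  obtain ⟨c, rfl⟩ : z ∈ Set.range (pullback.diagonal f) :=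
    hzz.mem_closed (pullback.diagonal f).isClosedEmbedding.isClosed_range ⟨_, hd⟩
  rw [← Scheme.Hom.comp_apply, ← Scheme.Hom.comp_apply, pullback.diagonal_fst, pullback.diagonal_snd]

/-- Left cancellation of localizing immersions along schematically dominant morphisms. -/
theorem isLocImmersion_of_comp [IsNoetherian X] (f : X ⟶ Y) (g : Y ⟶ Z) (hfg : LocImm.IsLocImmersion (f ≫ g))
    [IsSeparated g] (hd : ∀ U : Y.Opens, Function.Injective (f.app U).hom) : LocImm.IsLocImmersion f := by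
  refine isLocImmersion_of_forall_nhd f fun x => ?_
  obtain ⟨W, hxW, -, hW, hV, -⟩ := exists_nhd (f ≫ g) hfg x (O := ⊤) trivial
  obtain ⟨U, hU, hxU, hUW⟩ : ∃ U : Y.Opens, IsAffineOpen U ∧ f x ∈ U ∧ U ≤ g ⁻¹ᵁ W := by
    obtain ⟨_, ⟨U, hU, rfl⟩, hxU, hUW⟩ :=
      Y.isBasis_affineOpens.exists_subset_of_mem_open (show f x ∈ g ⁻¹ᵁ W from hxW) (g ⁻¹ᵁ W).isOpen
    exact ⟨U, hU, hxU, hUW⟩
  obtain ⟨G, hG, hGU⟩ := (isEmbedding (f ≫ g) hfg).isInducing.isOpen_iff.mp (f ⁻¹ᵁ U).isOpen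
  have hxG : (f ≫ g) x ∈ ((⟨G, hG⟩ : Z.Opens) ⊓ W) :=
    ⟨show x ∈ (f ≫ g) ⁻¹' G by rw [hGU]; exact hxU, hxW⟩
  obtain ⟨W', hxW', hW'O, hW', hV', hl⟩ := exists_nhd (f ≫ g) hfg x hxG
  obtain ⟨c, hcle, hxc⟩ := hW.exists_basicOpen_le (V := W') ⟨_, hxW'⟩ hxW
  obtain ⟨W'', hxW'', hW''le, hW'', hV'', hl''⟩ := exists_nhd (f ≫ g) hfg x hxc
  have hWle : W'' ≤ W := hW''le.trans (Z.basicOpen_le c)
  have hpre : f ⁻¹ᵁ (U ⊓ g ⁻¹ᵁ W'') = (f ≫ g) ⁻¹ᵁ W'' := by
    refine le_antisymm (fun w hw => hw.2) fun w hw => ⟨?_, hw⟩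
    have : w ∈ (f ≫ g) ⁻¹' G := ((hW'O (hcle (hW''le hw))).1 :)
    rwa [hGU] at this
  have hU' : IsAffineOpen (U ⊓ g ⁻¹ᵁ W'') := by
    haveI : IsAffine U.toScheme := hU
    haveI : IsAffine W''.toScheme := hW''
    haveI : IsAffine W.toScheme := hW
    haveI : IsAffineHom (g.resLE W U hUW) := inferInstance
    have h := hW''.preimage_of_isOpenImmersion W.ι (by rw [Scheme.Opens.opensRange_ι]; exact hWle)
    have h2 := (h.preimage (g.resLE W U hUW)).image_of_isOpenImmersion U.ι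
    rwa [← Scheme.Hom.comp_preimage, Scheme.Hom.resLE_comp_ι, Scheme.Hom.comp_preimage,
      Scheme.Hom.image_preimage_eq_opensRange_inf, Scheme.Opens.opensRange_ι] at h2
  refine ⟨U ⊓ g ⁻¹ᵁ W'', ⟨hxU, hxW''⟩, hU', hpre ▸ hV'', ?_⟩
  refine isLocHom_of_comp_of_injective (g.appLE W'' (U ⊓ g ⁻¹ᵁ W'') inf_le_right).hom _ ?_ (hd _)
  have key : ∀ (O : X.Opens) (hO : O ≤ (f ≫ g) ⁻¹ᵁ W''), O = (f ≫ g) ⁻¹ᵁ W'' →
      LocImm.IsLocHom ((f ≫ g).appLE W'' O hO).hom := by
    rintro O hO rfl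
    rwa [← Scheme.Hom.app_eq_appLE]
  have := key _ hpre.le hpre
  rw [← Scheme.Hom.appLE_comp_appLE f g W'' (U ⊓ g ⁻¹ᵁ W'') _ inf_le_right le_rfl, ← Scheme.Hom.app_eq_appLE] at this
  exact this

end Groth.Agent.LocImmLib
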