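import Groth.Prelude.Def_W4c5cptfessfintypeLocImm
import Mathlib.RingTheory.Localization.BaseChange

/-!
# Localizing ring maps
-/

set_option autoImplicit false

universe u

namespace Groth.Agent.LocImmLib

variable {A B A' B' : Type u} [CommRing A] [CommRing B] [CommRing A'] [CommRing B']

/-- Elementwise criterion for a ring map to be a localization. -/
theorem isLocHom_iff (φ : A →+* B) :
    LocImm.IsLocHom φ ↔
      (∀ b, ∃ a s, IsUnit (φ s) ∧ b * φ s = φ a) ∧
        (∀ a a', φ a = φ a' → ∃ s, IsUnit (φ s) ∧ s * a = s * a') := by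
  letI := φ.toAlgebra
  constructor
  · rintro ⟨S, hS⟩
    refine ⟨fun b => ?_, fun a a' h => ?_⟩
    · obtain ⟨⟨a, s⟩, hb⟩ := IsLocalization.surj S b
      exact ⟨a, s, IsLocalization.map_units B s, hb⟩
    · obtain ⟨c, hc⟩ := IsLocalization.exists_of_eq (M := S) (S := B) h
      exact ⟨c, IsLocalization.map_units B c, hc⟩
  · rintro ⟨hs, he⟩
    exact ⟨(IsUnit.submonoid B).comap φ, ⟨fun y => y.2,
      fun b => let ⟨a, s, hs, h⟩ := hs b; ⟨⟨a, ⟨s, hs⟩⟩, h⟩,
      fun h => let ⟨s, hs, h'⟩ := he _ _ h; ⟨⟨s, hs⟩, h'⟩⟩⟩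

/-- Localizing a localization: the map on `A_a → B_{φ a}`. -/
theorem isLocHom_away {φ : A →+* B} (hφ : LocImm.IsLocHom φ) (a : A) [Algebra A A'] [IsLocalization.Away a A']
    [Algebra B B'] [IsLocalization.Away (φ a) B'] (ψ : A' →+* B')
    (h : ψ.comp (algebraMap A A') = (algebraMap B B').comp φ) : LocImm.IsLocHom ψ := by
  rw [isLocHom_iff] at hφ ⊢
  obtain ⟨hs, he⟩ := hφ
  have hψ : ∀ x, ψ (algebraMap A A' x) = algebraMap B B' (φ x) := fun x => RingHom.congr_fun h x
  have hau : IsUnit (algebraMap A A' a) := IsLocalization.Away.algebraMap_isUnit a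
  refine ⟨fun b' => ?_, fun x' y' hxy => ?_⟩
  · obtain ⟨⟨b, ⟨_, n, rfl⟩⟩, hb⟩ := IsLocalization.surj (Submonoid.powers (φ a)) b'
    obtain ⟨c, s, hsu, hc⟩ := hs b
    refine ⟨algebraMap A A' c, algebraMap A A' (s * a ^ n), ?_, ?_⟩
    · rw [map_mul, map_pow, map_mul, map_pow, hψ s]
      exact (hsu.map _).mul ((hau.map ψ).pow n)
    · rw [hψ, hψ, map_mul φ, map_pow φ, map_mul (algebraMap B B'), map_pow (algebraMap B B'), mul_comm (algebraMap B B' (φ s)), ← mul_assoc,
        ← hc, map_mul (algebraMap B B'), ← map_pow (algebraMap B B'), hb]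
  · obtain ⟨⟨x, ⟨_, n, rfl⟩⟩, hx⟩ := IsLocalization.surj (Submonoid.powers a) x'
    obtain ⟨⟨y, ⟨_, m, rfl⟩⟩, hy⟩ := IsLocalization.surj (Submonoid.powers a) y'
    have h1 : algebraMap B B' (φ (x * a ^ m)) = algebraMap B B' (φ (y * a ^ n)) := by
      rw [← hψ, ← hψ, map_mul (algebraMap A A'), map_mul (algebraMap A A'), ← hx, ← hy, map_mul ψ, map_mul ψ,
        map_mul ψ, map_mul ψ, hxy]
      ring
    obtain ⟨⟨_, k, rfl⟩, hk⟩ := IsLocalization.exists_of_eq (M := Submonoid.powers (φ a)) h1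
    obtain ⟨s, hsu, hs'⟩ := he (a ^ k * (x * a ^ m)) (a ^ k * (y * a ^ n)) (by simpa using hk)
    refine ⟨algebraMap A A' s, ?_, ?_⟩
    · rw [hψ]; exact hsu.map _
    · have h2 := congrArg (algebraMap A A') hs'
      simp only [map_mul, map_pow] at h2
      rw [← hx, ← hy] at h2
      simp only [map_pow] at h2
      refine (hau.pow (k + m + n)).mul_left_cancel ?_
      linear_combination h2

/-- An injective second factor of a localization is a localization. -/
theorem isLocHom_of_comp_of_injective (φ : A →+* A') (ψ : A' →+* B) (h : LocImm.IsLocHom (ψ.comp φ))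
    (hi : Function.Injective ψ) : LocImm.IsLocHom ψ := by
  rw [isLocHom_iff] at h ⊢
  obtain ⟨hs, -⟩ := h
  exact ⟨fun b => let ⟨a, s, hu, hb⟩ := hs b; ⟨φ a, φ s, hu, hb⟩,
    fun a a' he => ⟨1, by rw [map_one]; exact isUnit_one, by rw [hi he]⟩⟩

/-- Localizations are stable under base change. -/
theorem isLocHom_pushout [Algebra A B] [Algebra A A'] [Algebra A B'] [Algebra B B'] [Algebra A' B']
    [IsScalarTower A A' B'] [IsScalarTower A B B'] [Algebra.IsPushout A A' B B']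
    (h : LocImm.IsLocHom (algebraMap A B)) : LocImm.IsLocHom (algebraMap A' B') := by
  obtain ⟨hs, he⟩ := (isLocHom_iff _).mp h
  let S : Submonoid A := (IsUnit.submonoid B).comap (algebraMap A B)
  haveI : IsLocalization S B := ⟨fun y => y.2,
    fun b => let ⟨a, s, hs, h⟩ := hs b; ⟨⟨a, ⟨s, hs⟩⟩, h⟩,
    fun h => let ⟨s, hs, h'⟩ := he _ _ h; ⟨⟨s, hs⟩, h'⟩⟩
  haveI : IsLocalization (Algebra.algebraMapSubmonoid A' S) B' :=
    (Algebra.isLocalization_iff_isPushout (T := A') (A := B) (B := B') S).mpr inferInstance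
  refine (isLocHom_iff _).mpr ⟨fun b => ?_, fun a a' h => ?_⟩
  · obtain ⟨⟨a, s⟩, hb⟩ := IsLocalization.surj (Algebra.algebraMapSubmonoid A' S) b
    exact ⟨a, s, IsLocalization.map_units B' s, hb⟩
  · obtain ⟨c, hc⟩ := IsLocalization.exists_of_eq (M := Algebra.algebraMapSubmonoid A' S) (S := B') h
    exact ⟨c, IsLocalization.map_units B' c, hc⟩

end Groth.Agent.LocImmLib
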